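import Mathlib

/-!
Elementary identities behind abstract Shintani descent.
-/

set_option autoImplicit false

namespace CfsgLib.Shintani

variable {X : Type*} [Group X] (σ : MulAut X)

theorem prod_range (a g : X) (ha : g = a * (σ a)⁻¹) (d : ℕ) :
    ((List.range d).map (fun i => (σ ^ i) g)).prod = a * ((σ ^ d) a)⁻¹ := by
  induction d with
  | zero => simp
  | succ d ih =>
    rw [List.range_succ, List.map_append, List.prod_append, ih]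
    subst ha
    simp [pow_succ, MulAut.mul_apply, mul_assoc]

theorem pow_apply_comm (e : ℕ) (y : X) : (σ ^ e) (σ y) = σ ((σ ^ e) y) := by
  rw [← MulAut.mul_apply, ← MulAut.mul_apply, (Commute.self_pow σ e).eq]

theorem image_fixed (e : ℕ) (a g : X) (ha : g = a * (σ a)⁻¹) (hg : (σ ^ e) g = g) :
    σ (((σ ^ e) a)⁻¹ * a) = ((σ ^ e) a)⁻¹ * a := by
  subst ha
  rw [map_mul, map_inv, pow_apply_comm] at hg
  rw [map_mul, map_inv]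
  calc (σ ((σ ^ e) a))⁻¹ * σ a
      = ((σ ^ e) a)⁻¹ * ((σ ^ e) a * (σ ((σ ^ e) a))⁻¹) * σ a := by group
    _ = ((σ ^ e) a)⁻¹ * (a * (σ a)⁻¹) * σ a := by rw [hg]
    _ = ((σ ^ e) a)⁻¹ * a := by group

theorem fixed_of_fixed (e : ℕ) (a : X) (hx : σ (((σ ^ e) a)⁻¹ * a) = ((σ ^ e) a)⁻¹ * a) :
    (σ ^ e) (a * (σ a)⁻¹) = a * (σ a)⁻¹ := by
  rw [map_mul, map_inv, pow_apply_comm]
  rw [map_mul, map_inv] at hx
  calc (σ ^ e) a * (σ ((σ ^ e) a))⁻¹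
      = (σ ^ e) a * ((σ ((σ ^ e) a))⁻¹ * σ a) * (σ a)⁻¹ := by group
    _ = (σ ^ e) a * (((σ ^ e) a)⁻¹ * a) * (σ a)⁻¹ := by rw [hx]
    _ = a * (σ a)⁻¹ := by group

theorem pow_fixed (e : ℕ) (h : X) (hh : σ h = h) : (σ ^ e) h = h := by
  induction e with
  | zero => simp
  | succ e ih => rw [pow_succ, MulAut.mul_apply, hh, ih]

theorem pow_image (e d : ℕ) (a : X) (hx : σ (((σ ^ e) a)⁻¹ * a) = ((σ ^ e) a)⁻¹ * a) :
    (((σ ^ e) ^ d) a)⁻¹ * a = (((σ ^ e) a)⁻¹ * a) ^ d := by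
  induction d with
  | zero => simp
  | succ d ih =>
    have hfix : ((σ ^ e) ^ d) (((σ ^ e) a)⁻¹ * a) = ((σ ^ e) a)⁻¹ * a := by
      rw [← pow_mul]; exact pow_fixed σ _ _ hx
    rw [pow_succ' (((σ ^ e) a)⁻¹ * a), ← ih, pow_succ (σ ^ e) d, MulAut.mul_apply]
    calc (((σ ^ e) ^ d) ((σ ^ e) a))⁻¹ * a
        = (((σ ^ e) ^ d) ((σ ^ e) a))⁻¹ * ((σ ^ e) ^ d) a * ((((σ ^ e) ^ d) a)⁻¹ * a) := by group
      _ = ((σ ^ e) ^ d) (((σ ^ e) a)⁻¹ * a) * ((((σ ^ e) ^ d) a)⁻¹ * a) := by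
          rw [map_mul, map_inv]
      _ = ((σ ^ e) a)⁻¹ * a * ((((σ ^ e) ^ d) a)⁻¹ * a) := by rw [hfix]

/-- Key equivalence: `k g σ(k)⁻¹ = g'` iff `b⁻¹ k a` is fixed by `σ`. -/
theorem twisted_iff (a b k : X) :
    b * (σ b)⁻¹ = k * (a * (σ a)⁻¹) * (σ k)⁻¹ ↔ σ (b⁻¹ * k * a) = b⁻¹ * k * a := by
  simp only [map_mul, map_inv]
  constructor
  · intro h
    calc (σ b)⁻¹ * σ k * σ a = b⁻¹ * (b * (σ b)⁻¹) * σ k * σ a := by group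
      _ = b⁻¹ * (k * (a * (σ a)⁻¹) * (σ k)⁻¹) * σ k * σ a := by rw [h]
      _ = b⁻¹ * k * a := by group
  · intro h
    calc b * (σ b)⁻¹ = b * ((σ b)⁻¹ * σ k * σ a) * (σ a)⁻¹ * (σ k)⁻¹ := by group
      _ = b * (b⁻¹ * k * a) * (σ a)⁻¹ * (σ k)⁻¹ := by rw [h]
      _ = k * (a * (σ a)⁻¹) * (σ k)⁻¹ := by group

/-- If `h = b⁻¹ k a` is fixed by `σ`, then `k` is fixed by `σ ^ e` iff `h` conjugates the image of `a`
to the image of `b`. -/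
theorem conj_iff (e : ℕ) (a b k : X) (hh : σ (b⁻¹ * k * a) = b⁻¹ * k * a) :
    (σ ^ e) k = k ↔
      ((σ ^ e) b)⁻¹ * b = (b⁻¹ * k * a) * (((σ ^ e) a)⁻¹ * a) * (b⁻¹ * k * a)⁻¹ := by
  have hh' := pow_fixed σ e _ hh
  simp only [map_mul, map_inv] at hh'
  constructor
  · intro h
    rw [h] at hh'
    calc ((σ ^ e) b)⁻¹ * b
        = ((σ ^ e) b)⁻¹ * k * (σ ^ e) a * (((σ ^ e) a)⁻¹ * a) * (b⁻¹ * k * a)⁻¹ := by group
      _ = (b⁻¹ * k * a) * (((σ ^ e) a)⁻¹ * a) * (b⁻¹ * k * a)⁻¹ := by rw [hh']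
  · intro h
    have : b⁻¹ * k * a = ((σ ^ e) b)⁻¹ * k * (σ ^ e) a := by
      calc b⁻¹ * k * a
          = (b⁻¹ * k * a) * (((σ ^ e) a)⁻¹ * a) * (b⁻¹ * k * a)⁻¹ * (b⁻¹ * k * a) * a⁻¹
              * (σ ^ e) a := by group
        _ = ((σ ^ e) b)⁻¹ * b * (b⁻¹ * k * a) * a⁻¹ * (σ ^ e) a := by rw [← h]
        _ = ((σ ^ e) b)⁻¹ * k * (σ ^ e) a := by group
    rw [this] at hh'
    exact mul_left_cancel (mul_right_cancel hh')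

end CfsgLib.Shintani
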